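import Mathlib

set_option autoImplicit false

open nonZeroDivisors Algebra Submodule

namespace Groth.Agent.H5.DiffLoc

section
variable {A B K L : Type*} [CommRing A] [CommRing B] [Field K] [Field L]
  [Algebra A K] [Algebra B L] [Algebra A B] [Algebra K L] [Algebra A L]
  [IsScalarTower A K L] [IsScalarTower A B L]
  (S : Submonoid A)
  {A' B' : Type*} [CommRing A'] [CommRing B'] [Algebra A A'] [Algebra B B'] [Algebra A' B']
  [Algebra A B'] [IsScalarTower A A' B'] [IsScalarTower A B B']
  [IsLocalization S A'] [IsLocalization (Algebra.algebraMapSubmonoid B S) B']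
  [Algebra A' K] [IsScalarTower A A' K] [Algebra B' L] [IsScalarTower B B' L]
  [Algebra A' L] [IsScalarTower A' K L] [IsScalarTower A' B' L]

omit [IsScalarTower A A' B'] [IsScalarTower A B B'] in
theorem isUnit_algebraMap_K (A' : Type*) [CommRing A'] [Algebra A A'] [IsLocalization S A']
    [Algebra A' K] [IsScalarTower A A' K] (s : S) : IsUnit (algebraMap A K s) := by
  rw [IsScalarTower.algebraMap_apply A A' K]
  exact (IsLocalization.map_units A' s).map _

include S in
theorem traceDual_le [Module.Finite A B] :
    (Submodule.traceDual A' K (1 : Submodule B' L) : Set L) ⊆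
      (Submodule.span B' (Submodule.traceDual A K (1 : Submodule B L) : Set L) : Set L) := by
  classical
  intro x hx
  rw [SetLike.mem_coe, Submodule.mem_traceDual] at hx
  obtain ⟨T, hT⟩ := (Module.Finite.fg_top : (⊤ : Submodule A B).FG)
  have h1 : ∀ t : B, ∃ a' : A', algebraMap A' K a' = traceForm K L x (algebraMap B L t) := by
    intro t
    have := hx (algebraMap B L t) (by
      rw [Submodule.mem_one]
      exact ⟨algebraMap B B' t, (IsScalarTower.algebraMap_apply B B' L t).symm⟩)
    exact this
  choose a' ha' using h1
  obtain ⟨s, hs⟩ := IsLocalization.exist_integer_multiples S T a'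
  have hy : algebraMap A L s * x ∈ Submodule.traceDual A K (1 : Submodule B L) := by
    rw [Submodule.mem_traceDual]
    intro b hb
    rw [Submodule.mem_one] at hb
    obtain ⟨b, rfl⟩ := hb
    have hb : b ∈ Submodule.span A (T : Set B) := by rw [hT]; trivial
    induction hb using Submodule.span_induction with
    | mem t ht =>
      obtain ⟨c, hc⟩ := hs t ht
      refine ⟨c, ?_⟩
      rw [traceForm_apply, mul_assoc, IsScalarTower.algebraMap_apply A K L, ← Algebra.smul_def,
        map_smul, ← traceForm_apply, ← ha', smul_eq_mul, IsScalarTower.algebraMap_apply A A' K c, hc,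
        Algebra.smul_def, map_mul, ← IsScalarTower.algebraMap_apply A A' K]
    | zero => exact ⟨0, by simp⟩
    | add u v _ _ hu hv =>
      rw [map_add, map_add]
      exact Subring.add_mem _ hu hv
    | smul r u _ hu =>
      obtain ⟨c, hc⟩ := hu
      refine ⟨r * c, ?_⟩
      rw [traceForm_apply] at hc
      generalize algebraMap A L s * x = z at hc ⊢
      rw [traceForm_apply, map_mul (algebraMap A K), hc, Algebra.smul_def, map_mul (algebraMap B L),
        ← IsScalarTower.algebraMap_apply A B L,
        IsScalarTower.algebraMap_apply A K L, mul_left_comm, ← Algebra.smul_def (algebraMap A K r),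
        map_smul, smul_eq_mul]
  haveI : IsScalarTower A A' L := IsScalarTower.of_algebraMap_eq (fun a => by
    rw [IsScalarTower.algebraMap_apply A K L, IsScalarTower.algebraMap_apply A A' K,
      ← IsScalarTower.algebraMap_apply A' K L])
  have hx2 : x = (IsLocalization.mk' A' 1 s : A') • (algebraMap A L s * x) := by
    rw [Algebra.smul_def, ← mul_assoc, IsScalarTower.algebraMap_apply A A' L, ← map_mul,
      IsLocalization.mk'_spec, map_one, map_one, one_mul]
  rw [hx2, SetLike.mem_coe, ← algebraMap_smul B' (IsLocalization.mk' A' 1 s : A')]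
  exact Submodule.smul_mem _ _ (Submodule.subset_span hy)

include S in
theorem le_traceDual :
    Submodule.span B' (Submodule.traceDual A K (1 : Submodule B L) : Set L) ≤
      Submodule.traceDual A' K (1 : Submodule B' L) := by
  rw [Submodule.span_le]
  intro n hn
  rw [SetLike.mem_coe, Submodule.mem_traceDual] at hn ⊢
  intro a ha
  rw [Submodule.mem_one] at ha
  obtain ⟨b', rfl⟩ := ha
  obtain ⟨⟨b, ⟨_, s, hs, rfl⟩⟩, hb⟩ := IsLocalization.surj (Algebra.algebraMapSubmonoid B S) b'
  simp only at hb
  obtain ⟨c, hc⟩ := hn (algebraMap B L b) (by rw [Submodule.mem_one]; exact ⟨b, rfl⟩)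
  have hu := isUnit_algebraMap_K S A' (K := K) ⟨s, hs⟩
  refine ⟨IsLocalization.mk' A' c ⟨s, hs⟩, ?_⟩
  have h1 : algebraMap B' L b' * algebraMap K L (algebraMap A K s) = algebraMap B L b := by
    rw [IsScalarTower.algebraMap_apply B B' L b, ← hb, map_mul, ← IsScalarTower.algebraMap_apply B B' L,
      ← IsScalarTower.algebraMap_apply A B L, IsScalarTower.algebraMap_apply A K L]
  have h2 : traceForm K L n (algebraMap B' L b') * algebraMap A K s = algebraMap A K c := by
    rw [hc, ← h1, traceForm_apply, traceForm_apply, ← mul_assoc, mul_comm _ (algebraMap K L _),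
      ← Algebra.smul_def, map_smul, smul_eq_mul, mul_comm]
  rw [← hu.mul_left_inj, h2, IsScalarTower.algebraMap_apply A A' K s, ← map_mul,
    IsLocalization.mk'_spec, ← IsScalarTower.algebraMap_apply]

end

section main
universe u
attribute [local instance] FractionRing.liftAlgebra FractionRing.isScalarTower_liftAlgebra

open FractionalIdeal

theorem main (A B : Type u) [CommRing A] [CommRing B]
    [IsDedekindDomain A] [IsDedekindDomain B] [Algebra A B] [Module.Finite A B] [Module.IsTorsionFree A B]
    [Algebra.IsSeparable (FractionRing A) (FractionRing B)]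
    (S : Submonoid A) (hS : S ≤ nonZeroDivisors A)
    (Aₛ Bₛ : Type u) [CommRing Aₛ] [CommRing Bₛ] [Algebra A Aₛ] [Algebra B Bₛ] [Algebra Aₛ Bₛ]
    [Algebra A Bₛ] [IsScalarTower A Aₛ Bₛ] [IsScalarTower A B Bₛ]
    [IsLocalization S Aₛ] [IsLocalization (Algebra.algebraMapSubmonoid B S) Bₛ]
    [IsDomain Aₛ] [IsIntegrallyClosed Aₛ] [IsDedekindDomain Bₛ] [Module.IsTorsionFree Aₛ Bₛ] :
    Ideal.map (algebraMap B Bₛ) (differentIdeal A B) = differentIdeal Aₛ Bₛ := by
  classical
  have hSK : ∀ s : S, IsUnit (algebraMap A (FractionRing A) s) := fun s =>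
    IsLocalization.map_units (FractionRing A) (⟨s.1, hS s.2⟩ : A⁰)
  letI : Algebra Aₛ (FractionRing A) :=
    (IsLocalization.lift (M := S) (g := algebraMap A (FractionRing A)) hSK).toAlgebra
  haveI : IsScalarTower A Aₛ (FractionRing A) :=
    IsScalarTower.of_algebraMap_eq (fun a => (IsLocalization.lift_eq hSK a).symm)
  haveI : IsFractionRing Aₛ (FractionRing A) :=
    IsFractionRing.isFractionRing_of_isDomain_of_isLocalization S Aₛ (FractionRing A)
  have hSL : ∀ t : Algebra.algebraMapSubmonoid B S, IsUnit (algebraMap B (FractionRing B) t) := by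
    rintro ⟨_, s, hs, rfl⟩
    show IsUnit (algebraMap B (FractionRing B) (algebraMap A B s))
    rw [← IsScalarTower.algebraMap_apply A B (FractionRing B),
      IsScalarTower.algebraMap_apply A (FractionRing A) (FractionRing B)]
    exact (hSK ⟨s, hs⟩).map _
  letI : Algebra Bₛ (FractionRing B) :=
    (IsLocalization.lift (M := Algebra.algebraMapSubmonoid B S)
      (g := algebraMap B (FractionRing B)) hSL).toAlgebra
  haveI : IsScalarTower B Bₛ (FractionRing B) :=
    IsScalarTower.of_algebraMap_eq (fun a => (IsLocalization.lift_eq hSL a).symm)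
  haveI : IsFractionRing Bₛ (FractionRing B) :=
    IsFractionRing.isFractionRing_of_isDomain_of_isLocalization (Algebra.algebraMapSubmonoid B S)
      Bₛ (FractionRing B)
  letI : Algebra Aₛ (FractionRing B) :=
    ((algebraMap (FractionRing A) (FractionRing B)).comp (algebraMap Aₛ (FractionRing A))).toAlgebra
  haveI : IsScalarTower Aₛ (FractionRing A) (FractionRing B) :=
    IsScalarTower.of_algebraMap_eq (fun _ => rfl)
  haveI : IsScalarTower Aₛ Bₛ (FractionRing B) := by
    refine IsScalarTower.of_algebraMap_eq' ?_
    refine IsLocalization.ringHom_ext S ?_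
    ext a
    simp only [RingHom.comp_apply]
    rw [← IsScalarTower.algebraMap_apply A Aₛ Bₛ, IsScalarTower.algebraMap_apply A B Bₛ,
      ← IsScalarTower.algebraMap_apply B Bₛ (FractionRing B),
      IsScalarTower.algebraMap_apply Aₛ (FractionRing A) (FractionRing B),
      ← IsScalarTower.algebraMap_apply A Aₛ (FractionRing A),
      ← IsScalarTower.algebraMap_apply A (FractionRing A) (FractionRing B),
      ← IsScalarTower.algebraMap_apply A B (FractionRing B)]
  haveI : Algebra.IsIntegral A B := Algebra.IsIntegral.of_finite A B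
  haveI : Module.Finite Aₛ Bₛ := Module.Finite.of_isLocalization A B S
  haveI : Algebra.IsIntegral Aₛ Bₛ := Algebra.IsIntegral.of_finite Aₛ Bₛ
  haveI : IsIntegralClosure Bₛ Aₛ (FractionRing B) :=
    IsIntegralClosure.of_isIntegrallyClosed Bₛ Aₛ (FractionRing B)
  have key1 := coeIdeal_differentIdeal A (FractionRing A) (FractionRing B) B
  have key2 := coeIdeal_differentIdeal Aₛ (FractionRing A) (FractionRing B) Bₛ
  have hinj : Function.Injective (algebraMap B Bₛ) := by
    have h := IsFractionRing.injective B (FractionRing B)
    rw [IsScalarTower.algebraMap_eq B Bₛ (FractionRing B), RingHom.coe_comp] at h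
    exact Function.Injective.of_comp h
  have hf : B⁰ ≤ Submonoid.comap (algebraMap B Bₛ) Bₛ⁰ :=
    nonZeroDivisors_le_comap_nonZeroDivisors_of_injective _ hinj
  have hmap : IsLocalization.map (S := FractionRing B) (FractionRing B) (algebraMap B Bₛ) hf =
      RingHom.id (FractionRing B) := by
    refine IsLocalization.ringHom_ext B⁰ ?_
    ext b
    simp only [RingHom.comp_apply, IsLocalization.map_eq, RingHom.id_apply]
    rw [← IsScalarTower.algebraMap_apply]
  have claim : dual Aₛ (FractionRing A) (1 : FractionalIdeal Bₛ⁰ (FractionRing B)) =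
      (dual A (FractionRing A) (1 : FractionalIdeal B⁰ (FractionRing B))).extended
        (FractionRing B) hf := by
    apply FractionalIdeal.coeToSubmodule_injective
    show ((dual Aₛ (FractionRing A) (1 : FractionalIdeal Bₛ⁰ (FractionRing B)) :
        FractionalIdeal Bₛ⁰ (FractionRing B)) : Submodule Bₛ (FractionRing B)) =
      (((dual A (FractionRing A) (1 : FractionalIdeal B⁰ (FractionRing B))).extended
        (FractionRing B) hf : FractionalIdeal Bₛ⁰ (FractionRing B)) : Submodule Bₛ (FractionRing B))
    rw [coe_dual_one, coe_extended_eq_span, hmap]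
    simp only [RingHom.id_apply]
    have hcoe : (fun a => a) '' ((dual A (FractionRing A) (1 : FractionalIdeal B⁰ (FractionRing B)) :
        FractionalIdeal B⁰ (FractionRing B)) : Set (FractionRing B)) =
        (Submodule.traceDual A (FractionRing A) (1 : Submodule B (FractionRing B)) :
          Set (FractionRing B)) := by
      rw [Set.image_id']
      have := coe_dual_one A (FractionRing A) (FractionRing B) B
      exact congrArg (fun N : Submodule B (FractionRing B) => (N : Set (FractionRing B))) this
    rw [hcoe]
    refine le_antisymm ?_ ?_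
    · intro x hx
      exact traceDual_le (A := A) (B := B) (K := FractionRing A) (L := FractionRing B) S
        (A' := Aₛ) (B' := Bₛ) hx
    · exact le_traceDual (A := A) (B := B) (K := FractionRing A)
        (L := FractionRing B) S (A' := Aₛ) (B' := Bₛ)
  have e1 : ((differentIdeal Aₛ Bₛ : Ideal Bₛ) : FractionalIdeal Bₛ⁰ (FractionRing B)) =
      ((Ideal.map (algebraMap B Bₛ) (differentIdeal A B) : Ideal Bₛ) :
        FractionalIdeal Bₛ⁰ (FractionRing B)) := by
    rw [key2, claim, ← extended_coeIdeal_eq_map (K := FractionRing B) (M := B⁰) (FractionRing B) hf,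
      key1]
    exact (map_inv₀ (extendedHom' (K := FractionRing B) (M := B⁰) (FractionRing B) hf) _).symm
  exact (FractionalIdeal.coeIdeal_injective e1).symm

end main

end Groth.Agent.H5.DiffLoc
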